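import Groth.Agent.HypSS.CxInj
import Groth.Agent.HypAcyc.Cech
import Groth.Agent.GrothSS.Ext
import Groth.Agent.GrothSS.Efface
import Groth.Agent.SiteCoh.Derived
import Groth.Agent.DerExt.Coyoneda
import Groth.Prelude.Def_Hyper
import Groth.Prelude.Def_SpSeq

/-! The spectral sequence of a hypercovering. -/

set_option autoImplicit false
set_option linter.style.haveILetI false
set_option linter.unusedSectionVars false
set_option backward.isDefEq.respectTransparency false
set_option backward.isDefEq.respectTransparency.types false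
set_option maxHeartbeats 1000000

universe u

open CategoryTheory CategoryTheory.Limits Opposite Simplicial Abelian
open Groth.Agent.HypAcyc Groth.Agent.GrothSS

noncomputable section

namespace Groth.Agent.HypSS

variable {C : Type u} [SmallCategory C] {J : GrothendieckTopology C}
  (K : SimplicialObject (FormalCoproduct.{u} C))

/-- the Čech complex functor -/
abbrev cechF : (Cᵒᵖ ⥤ AddCommGrpCat.{u}) ⥤ CochainComplex AddCommGrpCat.{u} ℕ :=
  FormalCoproduct.cochainComplexFunctor K

theorem coEquiv_map {P Q : Cᵒᵖ ⥤ AddCommGrpCat.{u}} (η : P ⟶ Q) (n : ℕ) (x : ((cechF K).obj P).X n)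
    (i : (K.obj (op ⦋n⦌)).I) :
    coEquiv K Q n (((cechF K).map η).f n x) i = η.app _ (coEquiv K P n x i) := by
  rw [coEquiv_apply, coEquiv_apply]
  exact ConcreteCategory.congr_hom (Pi.map_π
    (fun i : (K.obj (op ⦋n⦌)).I => η.app (op ((K.obj (op ⦋n⦌)).obj i))) i) x

instance : (cechF K).Additive where
  map_add {P Q f g} := by
    refine HomologicalComplex.hom_ext _ _ fun n => AddCommGrpCat.hom_ext (AddMonoidHom.ext fun x => ?_)
    refine (coEquiv K Q n).injective (funext fun i => ?_)
    refine (coEquiv_map K (f + g) n x i).trans (Eq.trans ?_ (congrFun (map_add (coEquiv K Q n)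
      (((cechF K).map f).f n x) (((cechF K).map g).f n x)) i).symm)
    exact (congrArg₂ (· + ·) (coEquiv_map K f n x i) (coEquiv_map K g n x i)).symm

theorem cechF_shortExact (T : ShortComplex (Cᵒᵖ ⥤ AddCommGrpCat.{u})) (hT : T.ShortExact) :
    (T.map (cechF K)).ShortExact := by
  have hV : ∀ V : Cᵒᵖ, (T.map ((evaluation Cᵒᵖ AddCommGrpCat.{u}).obj V)).ShortExact := fun V =>
    hT.map_of_exact _
  refine HomologicalComplex.shortExact_of_degreewise_shortExact _ fun n => ?_
  refine @ShortComplex.ShortExact.mk _ _ _ _ ?_ ?_ ?_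
  · rw [ShortComplex.ab_exact_iff]
    intro x hx
    choose w hw using fun i => (ShortComplex.ab_exact_iff _).mp (hV (op ((K.obj (op ⦋n⦌)).obj i))).exact
      (coEquiv K T.X₂ n x i) ((coEquiv_map K T.g n x i).symm.trans
        (congrFun ((congrArg _ hx).trans (map_zero _)) i))
    refine ⟨(coEquiv K T.X₁ n).symm w, (coEquiv K T.X₂ n).injective (funext fun i => ?_)⟩
    refine (coEquiv_map K T.f n _ i).trans ?_
    rw [AddEquiv.apply_symm_apply]
    exact hw i
  · refine (AddCommGrpCat.mono_iff_injective _).2 fun x y hxy => (coEquiv K T.X₁ n).injective (funext fun i => ?_)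
    haveI := (hV (op ((K.obj (op ⦋n⦌)).obj i))).mono_f
    exact (AddCommGrpCat.mono_iff_injective (T.f.app (op ((K.obj (op ⦋n⦌)).obj i)))).1 ‹_›
      ((coEquiv_map K T.f n x i).symm.trans ((congrArg (fun t => coEquiv K T.X₂ n t i) hxy).trans
        (coEquiv_map K T.f n y i)))
  · refine (AddCommGrpCat.epi_iff_surjective _).2 fun y => ?_
    choose w hw using fun i =>
      haveI := (hV (op ((K.obj (op ⦋n⦌)).obj i))).epi_g
      (AddCommGrpCat.epi_iff_surjective (T.g.app (op ((K.obj (op ⦋n⦌)).obj i)))).1 ‹_› (coEquiv K T.X₃ n y i)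
    refine ⟨(coEquiv K T.X₂ n).symm w, (coEquiv K T.X₃ n).injective (funext fun i => ?_)⟩
    refine (coEquiv_map K T.g n _ i).trans ?_
    rw [AddEquiv.apply_symm_apply]
    exact hw i

/-- global section attached to a map out of the constant sheaf -/
def secOf (F : Sheaf J AddCommGrpCat.{u})
    (φ : (constantSheaf J AddCommGrpCat.{u}).obj (AddCommGrpCat.of (ULift.{u} ℤ)) ⟶ F) (U : Cᵒᵖ) :
    AddCommGrpCat.of (ULift.{u} ℤ) ⟶ F.obj.obj U :=
  ((sheafificationAdjunction J AddCommGrpCat.{u}).homEquiv _ F φ).app U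

/-- the corresponding element of the limit -/
def limOf (F : Sheaf J AddCommGrpCat.{u}) :
    ((constantSheaf J AddCommGrpCat.{u}).obj (AddCommGrpCat.of (ULift.{u} ℤ)) ⟶ F) ≃+ ↑(limit F.obj) :=
  AddEquiv.trans ((sheafificationAdjunction J AddCommGrpCat.{u}).homAddEquiv _ F)
    { toFun := fun ψ => limit.lift F.obj { pt := AddCommGrpCat.of (ULift.{u} ℤ), π := ψ } ⟨1⟩
      invFun := fun s =>
        { app := fun U => AddCommGrpCat.ofHom
            ((zmultiplesHom (F.obj.obj U) (limit.π F.obj U s)).comp AddEquiv.ulift.toAddMonoidHom)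
          naturality := fun U V f => by
            ext n
            show n.down • limit.π F.obj V s = F.obj.map f (n.down • limit.π F.obj U s)
            rw [map_zsmul, ← ConcreteCategory.comp_apply, limit.w] }
      left_inv := fun ψ => by
        ext U : 2
        ext n
        show n.down • limit.π F.obj U _ = ψ.app U n
        rw [← ConcreteCategory.comp_apply, limit.lift_π, ← map_zsmul]
        exact congrArg (ψ.app U) (ULift.ext _ _ (show n.down • (1 : ℤ) = n.down by simp))
      right_inv := fun s => Concrete.limit_ext _ _ _ fun U => by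
        rw [← ConcreteCategory.comp_apply, limit.lift_π]
        exact one_smul ℤ _
      map_add' := fun ψ ψ' => Concrete.limit_ext _ _ _ fun U => by
        rw [map_add, ← ConcreteCategory.comp_apply, ← ConcreteCategory.comp_apply, ← ConcreteCategory.comp_apply,
          limit.lift_π, limit.lift_π, limit.lift_π]
        rfl }

theorem limOf_comp {F G : Sheaf J AddCommGrpCat.{u}} (f : F ⟶ G)
    (φ : (constantSheaf J AddCommGrpCat.{u}).obj (AddCommGrpCat.of (ULift.{u} ℤ)) ⟶ F) :
    limOf G (φ ≫ f) = limMap f.hom (limOf F φ) := by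
  refine Concrete.limit_ext _ _ _ fun U => ?_
  rw [← ConcreteCategory.comp_apply (limMap f.hom), limMap_π]
  show limit.π G.obj U (limit.lift G.obj (Cone.mk (AddCommGrpCat.of (ULift.{u} ℤ))
      ((sheafificationAdjunction J AddCommGrpCat.{u}).homEquiv _ G (φ ≫ f))) (ULift.up 1 : ULift.{u} ℤ)) =
    f.hom.app U (limit.π F.obj U (limit.lift F.obj (Cone.mk (AddCommGrpCat.of (ULift.{u} ℤ))
      ((sheafificationAdjunction J AddCommGrpCat.{u}).homEquiv _ F φ)) (ULift.up 1 : ULift.{u} ℤ)))
  rw [← ConcreteCategory.comp_apply, limit.lift_π, ← ConcreteCategory.comp_apply (limit.lift F.obj _),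
    limit.lift_π]
  show ((sheafificationAdjunction J AddCommGrpCat.{u}).homEquiv _ G (φ ≫ f)).app U ⟨1⟩ = _
  rw [Adjunction.homEquiv_naturality_right]
  rfl

variable {K}

/-- global sections to degree zero Čech cohomology -/
def glob (hP : LocFill J (pre K)) :
    preadditiveCoyoneda.obj (op ((constantSheaf J AddCommGrpCat.{u}).obj (AddCommGrpCat.of (ULift.{u} ℤ)))) ≅
      (sheafToPresheaf J AddCommGrpCat.{u} ⋙ cechF K) ⋙
        HomologicalComplex.homologyFunctor AddCommGrpCat.{u} (ComplexShape.up ℕ) 0 :=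
  NatIso.ofComponents
    (fun F => (AddEquiv.toAddCommGrpIso
        (X := AddCommGrpCat.of ((constantSheaf J AddCommGrpCat.{u}).obj (AddCommGrpCat.of (ULift.{u} ℤ)) ⟶ F))
        (limOf F)) ≪≫ (homologyZeroIsoLimit hP F).symm)
    fun {F G} f => by
      ext φ
      show (homologyZeroIsoLimit hP G).inv (limOf G (φ ≫ f)) =
        HomologicalComplex.homologyMap ((cechF K).map f.hom) 0 ((homologyZeroIsoLimit hP F).inv (limOf F φ))
      rw [limOf_comp]
      have hn : limMap f.hom ≫ (homologyZeroIsoLimit hP G).inv =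
          (homologyZeroIsoLimit hP F).inv ≫ HomologicalComplex.homologyMap ((cechF K).map f.hom) 0 := by
        have h0 : res₀ K F ≫ ((cechF K).map f.hom).f 0 = limMap f.hom ≫ res₀ K G := by
          ext s
          refine (coEquiv K G.obj 0).injective (funext fun i => ?_)
          refine (coEquiv_map K f.hom 0 (res₀ K F s) i).trans ?_
          rw [coEquiv_res₀]
          refine Eq.trans ?_ (coEquiv_res₀ _ i).symm
          exact (ConcreteCategory.congr_hom (limMap_π f.hom _) s).symm
        simp only [homologyZeroIsoLimit, Iso.trans_inv, Iso.symm_inv]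
        show limMap f.hom ≫ (Hyper.cechCxSite K G.obj).liftCycles (res₀ K G) 1 (by simp) res₀_d ≫
            (CochainComplex.isoHomologyπ₀ (Hyper.cechCxSite K G.obj)).hom =
          ((Hyper.cechCxSite K F.obj).liftCycles (res₀ K F) 1 (by simp) res₀_d ≫
            (CochainComplex.isoHomologyπ₀ (Hyper.cechCxSite K F.obj)).hom) ≫ _
        change limMap f.hom ≫ _ ≫ (Hyper.cechCxSite K G.obj).homologyπ 0 = (_ ≫ (Hyper.cechCxSite K F.obj).homologyπ 0) ≫ _
        simp only [Category.assoc]
        rw [HomologicalComplex.homologyπ_naturality]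
        simp only [← Category.assoc]
        refine congrArg (· ≫ _) ?_
        rw [← cancel_mono ((Hyper.cechCxSite K G.obj).iCycles 0)]
        simp only [Category.assoc, HomologicalComplex.cyclesMap_i]
        erw [HomologicalComplex.liftCycles_i, HomologicalComplex.liftCycles_i_assoc]
        exact h0.symm
      exact ConcreteCategory.congr_hom hn _

/-- **the spectral sequence of a hypercovering** -/
theorem exists_ss (hP : LocFill J (pre K)) (F : Sheaf J AddCommGrpCat.{u}) :
    ∃ (E : E₂CohomologicalSpectralSequence AddCommGrpCat.{u})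
      (a : SpSeq.Abutment E (fun n : ℤ =>
        if 0 ≤ n then AddCommGrpCat.of (Sheaf.H F n.toNat) else AddCommGrpCat.of PUnit.{u + 1})),
      (∀ n, a.IsFinite n) ∧ SpSeq.IsBounded E ∧
      ∀ p q : ℤ, Nonempty ((E.page 2 le_rfl).X (p, q) ≅
        (if 0 ≤ p ∧ 0 ≤ q then (Hyper.cechCxSite K (Sheaf.cohomologyPresheaf F q.toNat)).homology p.toNat
          else AddCommGrpCat.of PUnit.{u + 1})) := by
  haveI := enoughInjectives_cx (A := AddCommGrpCat.{u})
  let S : CochainComplex AddCommGrpCat.{u} ℕ ⥤ AddCommGrpCat.{u} :=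
    HomologicalComplex.homologyFunctor AddCommGrpCat.{u} (ComplexShape.up ℕ) 0
  let Cx := 𝟭 (CochainComplex AddCommGrpCat.{u} ℕ)
  have hex : ∀ T : ShortComplex (CochainComplex AddCommGrpCat.{u} ℕ), T.ShortExact → (T.map Cx).ShortExact :=
    fun T hT => hT
  let α : S ≅ Cx ⋙ HomologicalComplex.homologyFunctor AddCommGrpCat.{u} (ComplexShape.up ℕ) 0 :=
    (Functor.leftUnitor _).symm
  haveI : PreservesFiniteLimits S := preservesFiniteLimits_of_complex Cx S α hex
  have hvan : ∀ (I : CochainComplex AddCommGrpCat.{u} ℕ), Injective I → ∀ p : ℕ,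
      IsZero ((Cx.obj I).homology (p + 1)) := fun I hI p => haveI := hI; isZero_homology_of_injective I p
  let T : Sheaf J AddCommGrpCat.{u} ⥤ CochainComplex AddCommGrpCat.{u} ℕ :=
    sheafToPresheaf J AddCommGrpCat.{u} ⋙ cechF K
  haveI : PreservesFiniteLimits (cechF K) :=
    (((cechF K).preservesFiniteLimits_tfae).out 0 3 rfl rfl).1 fun T hT =>
      ⟨(cechF_shortExact K T hT).exact, (cechF_shortExact K T hT).mono_f⟩
  haveI : PreservesFiniteColimits (cechF K) :=
    (((cechF K).preservesFiniteColimits_tfae).out 0 3 rfl rfl).1 fun T hT =>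
      ⟨(cechF_shortExact K T hT).exact, (cechF_shortExact K T hT).epi_g⟩
  refine exists_grothendieck_ite S T (fun I hI q hq => ?_) F (fun n => AddCommGrpCat.of (Sheaf.H F n))
    (fun p q => (Hyper.cechCxSite K (Sheaf.cohomologyPresheaf F q)).homology p) _
    (AddCommGrpCat.isZero_of_subsingleton _)
    (fun n => ⟨(rightDerivedMapIso (glob hP) n).symm.app F ≪≫ (DerExt.rightDerivedIso _ n).app F⟩) (fun p q => ?_)
  · obtain ⟨q, rfl⟩ : ∃ r, q = r + 1 := ⟨q - 1, by omega⟩
    haveI := hI
    obtain ⟨e⟩ := nonempty_rightDerived_iso_homology Cx S α hex hvan (q + 1) (T.obj I)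
    exact (isZero_homology_injective hP I q).of_iso e
  · let i2 : ((sheafToPresheaf J AddCommGrpCat.{u}).rightDerived q).obj F ≅ Sheaf.cohomologyPresheaf F q :=
      (injectiveResolution F).isoRightDerivedObj _ q ≪≫ SiteCoh.homologyIsoCohomology F q
    obtain ⟨k⟩ := nonempty_rightDerived_comp_exact (sheafToPresheaf J AddCommGrpCat.{u}) (cechF K) q F
    obtain ⟨j⟩ := nonempty_rightDerived_iso_homology Cx S α hex hvan p
      ((cechF K).obj (Sheaf.cohomologyPresheaf F q))
    exact ⟨(S.rightDerived p).mapIso (k ≪≫ (cechF K).mapIso i2) ≪≫ j⟩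

end Groth.Agent.HypSS
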