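import Mathlib

/-! Injective objects among nonnegative cochain complexes. -/

set_option autoImplicit false
set_option backward.isDefEq.respectTransparency false

universe v u

open CategoryTheory CategoryTheory.Limits

noncomputable section

namespace Groth.Agent.HypSS

variable {A : Type u} [Category.{v} A] [Abelian A]

/-- the contractible complex of a sequence of objects -/
def disc (I : ℕ → A) : CochainComplex A ℕ :=
  CochainComplex.of (fun n => I n ⊞ I (n + 1)) (fun n => biprod.snd ≫ biprod.inl) (fun n => by simp)

@[simp]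
theorem disc_d (I : ℕ → A) (n : ℕ) : (disc I).d n (n + 1) = biprod.snd ≫ biprod.inl :=
  CochainComplex.of_d (fun n => I n ⊞ I (n + 1)) (fun n => biprod.snd ≫ biprod.inl) n

variable {I : ℕ → A} {K : CochainComplex A ℕ}

/-- a family of maps gives a map to the contractible complex -/
def toDisc (b : ∀ n, K.X n ⟶ I n) : K ⟶ disc I where
  f n := biprod.lift (b n) (K.d n (n + 1) ≫ b (n + 1))
  comm' n m h := by
    obtain rfl : n + 1 = m := h
    rw [disc_d]
    apply biprod.hom_ext
    · simp [disc]
    · simp [disc]

theorem toDisc_ext (f g : K ⟶ disc I) (h : ∀ n, f.f n ≫ biprod.fst = g.f n ≫ biprod.fst) : f = g := by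
  refine HomologicalComplex.hom_ext _ _ fun n => ?_
  apply biprod.hom_ext
  · exact h n
  · have h1 := congrArg (· ≫ biprod.fst) (f.comm n (n + 1))
    have h2 := congrArg (· ≫ biprod.fst) (g.comm n (n + 1))
    simp only [disc_d, Category.assoc, biprod.inl_fst, Category.comp_id] at h1 h2
    exact h1.trans ((congrArg (K.d n (n + 1) ≫ ·) (h (n + 1))).trans h2.symm)

theorem injective_disc (hI : ∀ n, Injective (I n)) : Injective (disc I) := ⟨fun {X Y} f g hg => by
  haveI : ∀ n, Mono (g.f n) := fun n =>
    (HomologicalComplex.eval A (ComplexShape.up ℕ) n).map_mono g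
  refine ⟨toDisc fun n => Injective.factorThru (f.f n ≫ biprod.fst) (g.f n), toDisc_ext _ _ fun n => ?_⟩
  simp [toDisc]⟩

theorem exactAt_disc (n : ℕ) : (disc I).ExactAt (n + 1) := by
  rw [HomologicalComplex.exactAt_iff' _ n (n + 1) (n + 1 + 1) (by simp) (by simp)]
  rw [ShortComplex.exact_iff_exact_up_to_refinements]
  intro Z x hx
  refine ⟨Z, 𝟙 Z, inferInstance, x ≫ biprod.fst ≫ biprod.inr, ?_⟩
  have hx' : x ≫ biprod.snd = (0 : Z ⟶ I (n + 1 + 1)) := by
    have := congrArg (· ≫ biprod.fst) hx
    simp only [HomologicalComplex.shortComplexFunctor'_obj_g, disc_d, Category.assoc, biprod.inl_fst,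
      Category.comp_id, zero_comp] at this
    exact this
  rw [Category.id_comp]
  show x = (x ≫ biprod.fst ≫ biprod.inr) ≫ (disc I).d n (n + 1)
  rw [disc_d]
  apply biprod.hom_ext
  · simp
  · simpa using hx'

variable [EnoughInjectives A]

/-- the embedding in an injective complex -/
def emb (K : CochainComplex A ℕ) : K ⟶ disc fun n => Injective.under (K.X n) :=
  toDisc fun n => Injective.ι (K.X n)

instance (K : CochainComplex A ℕ) : Mono (emb K) := by
  haveI : ∀ n, Mono ((emb K).f n) := fun n => by
    haveI : Mono ((emb K).f n ≫ biprod.fst) := by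
      simp only [emb, toDisc, biprod.lift_fst]
      infer_instance
    exact mono_of_mono ((emb K).f n) biprod.fst
  exact HomologicalComplex.mono_of_mono_f _ inferInstance

theorem enoughInjectives_cx : EnoughInjectives (CochainComplex A ℕ) :=
  ⟨fun K => ⟨⟨disc fun n => Injective.under (K.X n), injective_disc fun _ => inferInstance, emb K, inferInstance⟩⟩⟩

theorem isZero_homology_of_injective (K : CochainComplex A ℕ) [Injective K] (n : ℕ) :
    IsZero (K.homology (n + 1)) := by
  rw [IsZero.iff_id_eq_zero, ← HomologicalComplex.homologyMap_id,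
    ← Injective.comp_factorThru (𝟙 K) (emb K), HomologicalComplex.homologyMap_comp,
    ((exactAt_disc n).isZero_homology).eq_of_tgt (HomologicalComplex.homologyMap (emb K) (n + 1)) 0, zero_comp]

end Groth.Agent.HypSS
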